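import Cfsg.Agent.TwE6Fi22.Cent
import Cfsg.Prelude.Def_KGroupFacts

/-!
Three classes of a subgroup under the diagonal automorphism.
-/

set_option autoImplicit false
set_option Elab.async false

open Cfsg Cfsg.Lie Matrix

namespace Cfsg.Agent.TwE6Fi22

open Cfsg.Agent.GFour25

/-- squares of automorphisms are inner, from the outer automorphism group -/
theorem sq_inner_of_out {G : Type*} [Group G] (h : ∀ x : Cfsg.Out G, x * x = 1) (a : MulAut G) :
    ∃ g : G, a * a = MulAut.conj g := by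
  have := h (QuotientGroup.mk a)
  rw [← QuotientGroup.mk_mul, QuotientGroup.eq_one_iff] at this
  obtain ⟨g, hg⟩ := this
  exact ⟨g, hg.symm⟩

theorem sq_inner_congr {G H : Type*} [Group G] [Group H] (e : G ≃* H)
    (h : ∀ a : MulAut H, ∃ g : H, a * a = MulAut.conj g) (a : MulAut G) :
    ∃ g : G, a * a = MulAut.conj g := by
  obtain ⟨g, hg⟩ := h ((e.symm.trans a).trans e)
  refine ⟨e.symm g, MulEquiv.ext fun x => ?_⟩
  have := congrArg e.symm (congrArg (fun f : MulAut H => f (e x)) hg)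
  simpa [MulAut.mul_apply] using this

theorem dEl_pow_conj (k : ℕ) {g : GLV} (hg : g ∈ Tw) : dEl ^ k * g * (dEl ^ k)⁻¹ ∈ Tw := by
  induction k with
  | zero => simpa using hg
  | succ k ih =>
    have := dEl_conj ih
    rw [pow_succ', _root_.mul_inv_rev]
    simpa only [mul_assoc] using this

theorem dEl_pow_conj' (k : ℕ) {g : GLV} (hg : g ∈ Tw) : (dEl ^ k)⁻¹ * g * dEl ^ k ∈ Tw := by
  have e : (dEl ^ k)⁻¹ = dEl ^ (2 * k) :=
    inv_eq_of_mul_eq_one_right (by rw [← pow_add, show k + 2 * k = 3 * k by omega, pow_mul, dEl_pow_three, one_pow])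
  have := dEl_pow_conj (2 * k) hg
  rw [← e, inv_inv] at this
  exact this

/-- the conjugates of a subgroup -/
noncomputable def conjSub (L : Subgroup GLV) (k : ℕ) : Subgroup GLV := L.map (MulAut.conj (dEl ^ k)).toMonoidHom

theorem conjSub_le {L : Subgroup GLV} (hL : L ≤ Tw) (k : ℕ) : conjSub L k ≤ Tw := by
  rintro _ ⟨x, hx, rfl⟩
  exact dEl_pow_conj k (hL hx)

/-- a subgroup inside the twisted group -/
noncomputable def famSub (L : Subgroup GLV) (i : Fin 3) : Subgroup ↥Tw := (conjSub L i.val).subgroupOf Tw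

theorem famSub_equiv {L : Subgroup GLV} (hL : L ≤ Tw) (i : Fin 3) : Nonempty (↥(famSub L i) ≃* ↥L) :=
  ⟨(Subgroup.subgroupOfEquivOfLe (conjSub_le hL i.val)).trans
    (L.equivMapOfInjective _ (MulAut.conj (dEl ^ i.val)).injective).symm⟩

theorem dEl_pow_not_mem {k : ℕ} (hk : ¬ 3 ∣ k) : dEl ^ k ∉ Tw := by
  intro h
  have h3 : dEl ^ k = dEl ^ (k % 3) := by
    conv_lhs => rw [← Nat.mod_add_div k 3, pow_add, pow_mul, dEl_pow_three, one_pow, mul_one]
  rw [h3] at h
  rcases (show k % 3 = 1 ∨ k % 3 = 2 by omega) with e | e <;> rw [e] at h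
  · exact dEl_not_mem (by simpa using h)
  · refine dEl_not_mem ?_
    have := mul_mem h h
    rwa [← pow_add, show 2 + 2 = 3 + 1 from rfl, pow_succ, dEl_pow_three, one_mul] at this

/-- The conjugates are not conjugate inside the twisted group. -/
theorem nonconj {L : Subgroup GLV} (hL : L ≤ Tw) (hz : ∀ k ∈ [1, 2, 3, 4, 5, 6, 7, 8], zEl k ∈ L)
    (hsq : ∀ a : MulAut ↥L, ∃ g : ↥L, a * a = MulAut.conj g) (i j : Fin 3) (hij : i ≠ j) (g : ↥Tw) :
    (famSub L i).map (MulAut.conj g).toMonoidHom ≠ famSub L j := by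
  intro heq
  have hmap : (conjSub L i.val).map (MulAut.conj (g : GLV)).toMonoidHom = conjSub L j.val := by
    have h1 : (famSub L i).map (Subgroup.subtype Tw) = conjSub L i.val := by
      rw [famSub, Subgroup.map_subgroupOf_eq_of_le (conjSub_le hL i.val)]
    have h2 : (famSub L j).map (Subgroup.subtype Tw) = conjSub L j.val := by
      rw [famSub, Subgroup.map_subgroupOf_eq_of_le (conjSub_le hL j.val)]
    rw [← h1, ← h2, ← heq, Subgroup.map_map, Subgroup.map_map]
    rfl
  set n : GLV := (dEl ^ j.val)⁻¹ * g * dEl ^ i.val with hn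
  have hnL : L.map (MulAut.conj n).toMonoidHom = L := by
    have := congrArg (Subgroup.map (MulAut.conj (dEl ^ j.val)⁻¹).toMonoidHom) hmap
    rw [conjSub, conjSub, Subgroup.map_map, Subgroup.map_map, Subgroup.map_map, MonoidHom.comp_assoc] at this
    have e1 : ((MulAut.conj (dEl ^ j.val)⁻¹).toMonoidHom.comp ((MulAut.conj (g : GLV)).toMonoidHom.comp
        (MulAut.conj (dEl ^ i.val)).toMonoidHom)) = (MulAut.conj n).toMonoidHom := by
      ext x
      simp [hn, mul_assoc]
    have e2 : (MulAut.conj (dEl ^ j.val)⁻¹).toMonoidHom.comp (MulAut.conj (dEl ^ j.val)).toMonoidHom =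
        MonoidHom.id GLV := by
      ext x
      simp [mul_assoc]
    rw [e1, e2, Subgroup.map_id] at this
    exact this
  let a : MulAut ↥L := ((MulAut.conj n).subgroupMap L).trans (MulEquiv.subgroupCongr hnL)
  obtain ⟨h, hh⟩ := hsq a
  have hc : ∀ x ∈ L, Commute ((h : GLV)⁻¹ * (n * n)) x := by
    intro x hx
    have e := congrArg (fun f : MulAut ↥L => ((f ⟨x, hx⟩ : ↥L) : GLV)) hh
    simp only [MulAut.mul_apply, MulAut.conj_apply, Subgroup.coe_mul, Subgroup.coe_inv] at e
    have e' : n * (n * x * n⁻¹) * n⁻¹ = (h : GLV) * x * (h : GLV)⁻¹ := e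
    show (h : GLV)⁻¹ * (n * n) * x = x * ((h : GLV)⁻¹ * (n * n))
    have e3 := congrArg (fun y => (h : GLV)⁻¹ * y * (n * n)) e'
    simpa [mul_assoc] using e3
  obtain ⟨k, hk3, y, hy, hyk⟩ : ∃ k : ℕ, ¬ 3 ∣ k ∧ ∃ y ∈ Tw, (h : GLV)⁻¹ * (n * n) = dEl ^ k * y := by
    have key : n = dEl ^ (2 * j.val + i.val) * ((dEl ^ i.val)⁻¹ * g * dEl ^ i.val) := by
      have e : (dEl ^ j.val)⁻¹ = dEl ^ (2 * j.val) := inv_eq_of_mul_eq_one_right
        (by rw [← pow_add, show j.val + 2 * j.val = 3 * j.val by omega, pow_mul, dEl_pow_three, one_pow])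
      rw [hn, e, pow_add]
      group
    have hij' : i.val ≠ j.val := fun e => hij (Fin.ext e)
    have hi3 := i.2
    have hj3 := j.2
    set m := 2 * j.val + i.val with hm
    set q := (dEl ^ i.val)⁻¹ * (g : GLV) * dEl ^ i.val
    have hq : q ∈ Tw := dEl_pow_conj' i.val g.2
    refine ⟨2 * m, by omega, ((dEl ^ (2 * m))⁻¹ * (h : GLV)⁻¹ * dEl ^ (2 * m)) *
      (((dEl ^ m)⁻¹ * q * dEl ^ m) * q),
      mul_mem (dEl_pow_conj' _ (inv_mem (hL h.2))) (mul_mem (dEl_pow_conj' _ hq) hq), ?_⟩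
    rw [key, two_mul m, pow_add dEl m m]
    generalize dEl ^ m = A
    group
  have h1 : (h : GLV)⁻¹ * (n * n) = 1 := by
    refine eq_one_of_commute ?_ fun k hk => hc _ (hz k hk)
    rw [hyk]
    exact (pres_dEl_pow k).mul (pres_of_mem hy)
  rw [hyk, mul_eq_one_iff_eq_inv] at h1
  exact dEl_pow_not_mem hk3 (h1 ▸ inv_mem hy)

/-- Transport of a family along an isomorphism. -/
theorem transfer {A B : Type*} [Group A] [Group B] (e : A ≃* B) {H : Fin 3 → Subgroup A}
    (hne : ∀ i j, i ≠ j → ∀ g : A, (H i).map (MulAut.conj g).toMonoidHom ≠ H j) :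
    ∀ i j, i ≠ j → ∀ g : B,
      ((H i).map e.toMonoidHom).map (MulAut.conj g).toMonoidHom ≠ (H j).map e.toMonoidHom := by
  intro i j hij g h
  refine hne i j hij (e.symm g) (Subgroup.map_injective (f := e.toMonoidHom) e.injective ?_)
  refine Eq.trans ?_ h
  rw [Subgroup.map_map, Subgroup.map_map]
  congr 1
  ext x
  simp

theorem exists_tw_equiv {K : Type*} [Field K] [Fintype K] (hK : Fintype.card K = 4) :
    Nonempty (↥Tw ≃* ↥(twistedE6 K 2)) := by
  obtain ⟨f⟩ := exists_ringEquiv hK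
  let m : GLV →* GL chevE6.Idx K := Matrix.GeneralLinearGroup.map (n := chevE6.Idx) f.toRingHom
  have hm : Function.Injective m := fun a b h => Units.ext (Matrix.map_injective f.injective
    (congrArg Units.val h))
  have hw : ∀ w : List (ℕ × F4), ((m (wordEl w) : GL chevE6.Idx K) : Matrix chevE6.Idx chevE6.Idx K) =
      chevE6.wordMat K (w.map fun p => (p.1, f p.2)) := by
    intro w
    induction w with
    | nil => simp [wordEl, ChevalleyDatum.wordMat]
    | cons p w ih =>
      simp only [wordEl, ChevalleyDatum.wordMat] at ih ⊢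
      simp only [List.map_cons, List.prod_cons, map_mul, Units.val_mul, ih]
      refine congrArg (· * _) ?_
      show ((ChevGrp.xGL chevE6 F4 p.1 p.2 : GLV) : Matrix chevE6.Idx chevE6.Idx F4).map f = _
      rw [ChevGrp.val_xGL rules]
      exact ChevGrp.x_map chevE6 f.toRingHom p.1 p.2
  have himg : Tw.map m = twistedE6 K 2 := by
    refine le_antisymm ?_ ?_
    · rw [Subgroup.map_le_iff_le_comap]
      refine (Subgroup.closure_le _).2 ?_
      rintro g ⟨w, hw', hg⟩
      refine Subgroup.subset_closure ⟨w.map fun p => (p.1, f p.2), ?_, ?_⟩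
      · rcases hw' with ⟨t, ht, r, hr, rfl⟩ | ⟨t, rs, hrs, rfl⟩
        · exact Or.inl ⟨f t, by rw [← map_pow, ht], r, hr, rfl⟩
        · exact Or.inr ⟨f t, rs, hrs, by simp [map_pow]⟩
      · rw [ChevTw.eq_word_of_mat rules hg]
        exact hw w
    · refine (Subgroup.closure_le _).2 ?_
      rintro g ⟨w, hw', hg⟩
      refine ⟨wordEl (w.map fun p => (p.1, f.symm p.2)), mem_Tw_of_word ?_, Units.ext ?_⟩
      · rcases hw' with ⟨t, ht, r, hr, rfl⟩ | ⟨t, rs, hrs, rfl⟩
        · exact Or.inl ⟨f.symm t, by rw [← map_pow, ht], r, hr, rfl⟩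
        · exact Or.inr ⟨f.symm t, rs, hrs, by simp [map_pow]⟩
      · rw [hw, hg, List.map_map]
        congr 1
        simp [Function.comp_def]
  exact ⟨(Tw.equivMapOfInjective m hm).trans (MulEquiv.subgroupCongr himg)⟩

end Cfsg.Agent.TwE6Fi22
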