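import Cfsg.Agent.ChevTw.TwE6
import Cfsg.Agent.ChevTw.Sparse
import Cfsg.Agent.GFour25.Basic
import Cfsg.Agent.TwE6Fi22.Data

/-!
A bit representation of the 78-dimensional module of the twisted group of type E6 over four elements.
-/

set_option autoImplicit false

open Cfsg Cfsg.Lie Matrix

namespace Cfsg.Agent.TwE6Fi22

open Cfsg.Agent.GFour25

/-- the module -/
abbrev Vec : Type := chevE6.Idx → F4

/-- the matrix group -/
abbrev GLV : Type := GL chevE6.Idx F4

/-- the position of a coordinate -/
def pos (i : chevE6.Idx) : ℕ := (ChevTw.idxEquiv chevE6 i).val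

/-- an element of the field from its code -/
def toF (c : ℕ) : F4 := ⟨c.testBit 0, c.testBit 1⟩

/-- the code of an element of the field -/
def ofF (x : F4) : ℕ := (bif x.re then 1 else 0) + (bif x.im then 2 else 0)

/-- a coordinate of a pattern of 156 bits -/
def get4 (v p : ℕ) : F4 := ⟨v.testBit (2 * p), v.testBit (2 * p + 1)⟩

/-- the vector of a pattern of 156 bits -/
def d4 (v : ℕ) : Vec := fun i => get4 v (pos i)

theorem get4_zero (p : ℕ) : get4 0 p = 0 := by simp only [get4, Nat.zero_testBit]; rfl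

theorem get4_xor (a b p : ℕ) : get4 (a ^^^ b) p = get4 a p + get4 b p := by
  simp only [get4, Nat.testBit_xor]; rfl

theorem get4_shift (x : F4) (p q : ℕ) :
    get4 (ofF x <<< (2 * q)) p = if p = q then x else 0 := by
  have hx : ofF x < 2 ^ 2 := by revert x; decide
  have hi : ∀ j, 2 ≤ j → (ofF x).testBit j = false := fun j hj =>
    Nat.testBit_eq_false_of_lt (lt_of_lt_of_le hx (Nat.pow_le_pow_right two_pos hj))
  by_cases h : p = q
  · subst h
    have h0 : (ofF x).testBit 0 = x.re ∧ (ofF x).testBit 1 = x.im := by clear hi hx; revert x; decide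
    simp [get4, Nat.testBit_shiftLeft, h0.1, h0.2]
  · rw [if_neg h]
    simp only [get4, Nat.testBit_shiftLeft]
    rcases lt_or_gt_of_ne h with h | h
    · simp [show ¬ 2 * q ≤ 2 * p by omega, show ¬ 2 * q ≤ 2 * p + 1 by omega]; rfl
    · simp [hi _ (show 2 ≤ 2 * p - 2 * q by omega), hi _ (show 2 ≤ 2 * p + 1 - 2 * q by omega)]; rfl

theorem d4_zero : d4 0 = 0 := funext fun _ => get4_zero _

theorem d4_xor (a b : ℕ) : d4 (a ^^^ b) = d4 a + d4 b := funext fun _ => get4_xor _ _ _

theorem get4_foldr {α : Type*} (f : α → ℕ) (p : ℕ) (l : List α) :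
    get4 (l.foldr (fun b o => f b ^^^ o) 0) p = (l.map fun b => get4 (f b) p).sum := by
  induction l with
  | nil => exact get4_zero p
  | cons b l ih => rw [List.foldr_cons, get4_xor, ih, List.map_cons, List.sum_cons]

/-! ### Root elements -/

/-- an integer in the field -/
def cast4 (c : ℤ) : F4 := if c % 2 = 0 then 0 else 1

theorem cast4_eq (c : ℤ) : (c : F4) = cast4 c := by
  have h2 : (2 : F4) = 0 := two_eq_zero card_F4
  conv_lhs => rw [← Int.emod_add_mul_ediv c 2]
  rcases Int.emod_two_eq_zero_or_one c with h | h <;>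
    simp [cast4, h, h2]

/-- the image of a multiple of a unit vector under a root element -/
def colPat (r : ℕ) (t : F4) (j : ℕ) (a : F4) : ℕ :=
  bif a.re || a.im then
    (ChevTw.colTerms chevE6 r j).foldr
      (fun q o => ofF (cast4 q.2.2 * t ^ q.2.1 * a) <<< (2 * q.1) ^^^ o) 0
  else 0

/-- a root element on patterns of 156 bits -/
def x4 (r : ℕ) (t : F4) (v : ℕ) : ℕ :=
  (List.range 78).foldr (fun j o => colPat r t j (get4 v j) ^^^ o) 0

theorem neg_ok : ∀ r : Fin 72, chevE6.negIdx.getD r.val 0 < chevE6.nroots ∧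
    chevE6.negIdx.getD r.val 0 ≠ r.val := by decide +kernel

theorem rules : ChevGrp.Rules chevE6 F4 := ChevTw.rulesE6 F4

theorem get4_colPat {r : ℕ} (hr : r < 72) (t a : F4) (i j : chevE6.Idx) :
    get4 (colPat r t (pos j) a) (pos i) = chevE6.x F4 r t i j * a := by
  have h := ChevTw.evalT_xTerms chevE6 r hr (neg_ok ⟨r, hr⟩) t
  have h1 := congrFun (congrFun h (ChevTw.idxEquiv chevE6 i)) (ChevTw.idxEquiv chevE6 j)
  rw [ChevTw.xTerms, ChevTw.evalT_cols, if_pos (ChevTw.idxEquiv chevE6 j).isLt, Matrix.reindex_apply,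
    Matrix.submatrix_apply, Equiv.symm_apply_apply, Equiv.symm_apply_apply] at h1
  rw [← h1, ← List.sum_map_mul_right, colPat]
  rcases hc : a.re || a.im with _ | _
  · have ha : a = 0 := by revert hc; revert a; decide
    subst ha
    simp [get4_zero]
  · rw [cond_true, get4_foldr]
    refine congrArg List.sum (List.map_congr_left fun q _ => ?_)
    rw [get4_shift, ← cast4_eq, ChevTw.hit, ite_mul, zero_mul]
    rfl

theorem x4_spec {r : ℕ} (hr : r < 72) (t : F4) (v : ℕ) :
    d4 (x4 r t v) = chevE6.x F4 r t *ᵥ d4 v := by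
  funext i
  have e : ∀ f : ℕ → F4, ((List.range 78).map f).sum = ∑ j : chevE6.Idx, f (pos j) := by
    intro f
    rw [show ((List.range 78).map f).sum = ∑ k ∈ Finset.range 78, f k from rfl, Finset.sum_range]
    exact (Fintype.sum_equiv (ChevTw.idxEquiv chevE6) (fun j => f (pos j)) (fun k => f k.val)
      fun j => rfl).symm
  rw [d4, x4, get4_foldr, e]
  exact Finset.sum_congr rfl fun j _ => get4_colPat hr t _ i j

/-! ### Patterns of 78 bits -/

/-- a linear map given by the images of the bits -/
def appRow : List ℕ → ℕ → ℕ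
  | [], _ => 0
  | c :: cs, v => (if v.testBit 0 then c else 0) ^^^ appRow cs (v / 2)

theorem appRow_zero : ∀ l : List ℕ, appRow l 0 = 0
  | [] => rfl
  | c :: cs => by simp [appRow, appRow_zero cs]

theorem appRow_xor (l : List ℕ) : ∀ a b, appRow l (a ^^^ b) = appRow l a ^^^ appRow l b := by
  induction l with
  | nil => simp [appRow]
  | cons c cs ih =>
    intro a b
    have hd : (a ^^^ b) / 2 = a / 2 ^^^ b / 2 := Nat.eq_of_testBit_eq fun i => by
      simp [Nat.testBit_div_two, Nat.testBit_xor]
    simp only [appRow, hd, ih, Nat.testBit_xor]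
    cases ha : a.testBit 0 <;> cases hb : b.testBit 0 <;>
      simp [Nat.xor_assoc, Nat.xor_left_comm]

theorem appRow_two_pow (l : List ℕ) : ∀ b, appRow l (2 ^ b) = l.getD b 0 := by
  induction l with
  | nil => simp [appRow]
  | cons c cs ih =>
    intro b
    cases b with
    | zero => simp [appRow, appRow_zero]
    | succ b =>
      have h : 2 ^ (b + 1) / 2 = 2 ^ b := by rw [pow_succ]; omega
      simp [appRow, h, ih]

theorem hom_appRow {M : Type*} [AddCommMonoid M] (f : ℕ → M) (h0 : f 0 = 0)
    (hx : ∀ a b, f (a ^^^ b) = f a + f b) (l : List ℕ) : ∀ v : ℕ, f (appRow l v) =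
      ((List.range l.length).map fun b => if v.testBit b then f (l.getD b 0) else 0).sum := by
  induction l with
  | nil => exact fun _ => h0
  | cons c cs ih =>
    intro v
    rw [appRow, hx, ih, List.length_cons, List.range_succ_eq_map, List.map_cons, List.sum_cons,
      List.map_map]
    refine congrArg₂ (· + ·) (by split_ifs <;> simp_all) (congrArg List.sum (List.map_congr_left fun b _ => ?_))
    simp [Nat.testBit_succ]

/-- the pattern of 156 bits of a pattern of 78 bits -/
def conv (v : ℕ) : ℕ := appRow bvTab v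

/-- the vector of a pattern of 78 bits -/
def dec (v : ℕ) : Vec := d4 (conv v)

/-- the vectors fixed by the twist -/
def bv (b : ℕ) : Vec := d4 (bvTab.getD b 0)

theorem dec_zero : dec 0 = 0 := by rw [dec, conv, appRow_zero, d4_zero]

theorem dec_xor (a b : ℕ) : dec (a ^^^ b) = dec a + dec b := by
  rw [dec, conv, appRow_xor, d4_xor]; rfl

theorem bv_length : bvTab.length = 78 := by decide +kernel

theorem dec_eq_sum (v : ℕ) :
    dec v = ((List.range 78).map fun b => if v.testBit b then bv b else 0).sum := by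
  rw [dec, conv, hom_appRow d4 d4_zero d4_xor, bv_length]
  rfl

theorem dec_two_pow (b : ℕ) : dec (2 ^ b) = bv b := by rw [dec, conv, appRow_two_pow]; rfl

/-- the action on the module -/
def mv (g : GLV) (u : Vec) : Vec := (g : Matrix chevE6.Idx chevE6.Idx F4) *ᵥ u

theorem mv_mul (g h : GLV) (u : Vec) : mv (g * h) u = mv g (mv h u) := by
  simp only [mv, Units.val_mul, Matrix.mulVec_mulVec]

theorem mv_one (u : Vec) : mv 1 u = u := by simp [mv]

/-- the unit vectors on the vectors fixed by the twist -/
theorem single_eq (i : chevE6.Idx) :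
    (Pi.single i 1 : Vec) = ((coefTab.getD (pos i) []).map fun q => toF q.2 • bv q.1).sum := by
  have h : ∀ i j : chevE6.Idx, (if j = i then (1 : F4) else 0) =
      ((coefTab.getD (pos i) []).map fun q => toF q.2 * bv q.1 j).sum := by decide +kernel
  funext j
  rw [Pi.single_apply, h i j]
  induction coefTab.getD (pos i) [] with
  | nil => rfl
  | cons q l ih => rw [List.map_cons, List.sum_cons, List.map_cons, List.sum_cons, Pi.add_apply, ← ih]; rfl

/-- elements agreeing on the fixed vectors are equal -/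
theorem ext_bv {g h : GLV} (hg : ∀ b, mv g (bv b) = mv h (bv b)) : g = h := by
  refine Units.ext (Matrix.ext_of_mulVec_single fun i => ?_)
  rw [single_eq, ← Matrix.mulVecLin_apply, ← Matrix.mulVecLin_apply, map_list_sum, map_list_sum,
    List.map_map, List.map_map]
  refine congrArg List.sum (List.map_congr_left fun q _ => ?_)
  simp only [Function.comp_apply, map_smul, Matrix.mulVecLin_apply]
  exact congrArg _ (hg q.1)

/-- a row gives the images of the bits under an element -/
def Rep (g : GLV) (R : List ℕ) : Prop := ∀ v, mv g (dec v) = dec (appRow R v)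

theorem rep_of_bits {g : GLV} {R : List ℕ} (hl : R.length = 78)
    (h : ∀ b, b < 78 → mv g (bv b) = dec (R.getD b 0)) : Rep g R := by
  intro v
  rw [hom_appRow dec dec_zero dec_xor, hl, dec_eq_sum v, mv, ← Matrix.mulVecLin_apply, map_list_sum,
    List.map_map]
  refine congrArg List.sum (List.map_congr_left fun b hb => ?_)
  simp only [Function.comp_apply]
  split_ifs
  · exact h b (List.mem_range.1 hb)
  · exact map_zero _

theorem Rep.apply {g : GLV} {R : List ℕ} (h : Rep g R) (b : ℕ) : mv g (bv b) = dec (R.getD b 0) := by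
  rw [← dec_two_pow, h, appRow_two_pow]

theorem Rep.unique {g h : GLV} {R : List ℕ} (hg : Rep g R) (hh : Rep h R) : g = h :=
  ext_bv fun b => by rw [hg.apply, hh.apply]

/-- composition of rows -/
def mulRow (R S : List ℕ) : List ℕ := S.map (appRow R)

theorem appRow_mulRow (R S : List ℕ) : ∀ v, appRow (mulRow R S) v = appRow R (appRow S v) := by
  induction S with
  | nil => intro v; simp [mulRow, appRow, appRow_zero]
  | cons c cs ih =>
    intro v
    simp only [mulRow] at ih
    simp only [mulRow, List.map_cons, appRow, ih, appRow_xor]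
    split_ifs <;> simp [appRow_zero]

theorem Rep.mul {g h : GLV} {R S : List ℕ} (hg : Rep g R) (hh : Rep h S) : Rep (g * h) (mulRow R S) := by
  intro v
  rw [mv_mul, hh, hg, appRow_mulRow]

/-- a word in given elements on patterns -/
def actW (T : List (List ℕ)) (w : List ℕ) (v : ℕ) : ℕ := w.foldr (fun k o => appRow (T.getD k []) o) v

theorem mv_actW {f : ℕ → GLV} {T : List (List ℕ)} {n : ℕ} (hf : ∀ k < n, Rep (f k) (T.getD k [])) :
    ∀ {w : List ℕ}, (∀ k ∈ w, k < n) → ∀ v, mv (w.map f).prod (dec v) = dec (actW T w v)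
  | [], _, v => mv_one _
  | k :: w, h, v => by
    simp only [List.forall_mem_cons] at h
    rw [List.map_cons, List.prod_cons, mv_mul, mv_actW hf h.2, hf k h.1]
    rfl

/-- the check that a row gives the images of the bits under a word -/
def rowOK (T : List (List ℕ)) (n : ℕ) (w R : List ℕ) : Bool :=
  w.all (fun k => Nat.blt k n) && (Nat.beq R.length 78 &&
    (List.range 78).all fun b => Nat.beq (actW T w (2 ^ b)) (R.getD b 0))

theorem rep_of_rowOK {f : ℕ → GLV} {T : List (List ℕ)} {n : ℕ} (hf : ∀ k < n, Rep (f k) (T.getD k []))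
    {w R : List ℕ} (h : rowOK T n w R = true) : Rep (w.map f).prod R := by
  simp only [rowOK, Bool.and_eq_true] at h
  obtain ⟨hw, hl, hr⟩ := h
  refine rep_of_bits (Nat.eq_of_beq_eq_true hl) fun b hb => ?_
  rw [← dec_two_pow, mv_actW hf (fun k hk => Nat.blt_eq.mp (List.all_eq_true.1 hw k hk)),
    Nat.eq_of_beq_eq_true (List.all_eq_true.1 hr b (List.mem_range.2 hb))]

/-! ### Letters -/

/-- the pairs of roots exchanged by the twist -/
def pairRoots : List (ℕ × ℕ) := [(56, 36), (15, 35), (42, 37), (29, 34)]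

/-- a letter as a word in root elements -/
def lw (g : ℕ) : List (ℕ × F4) :=
  if g < 4 then [([46, 25, 39, 32].getD g 46, 1)]
  else [((pairRoots.getD ((g - 4) / 3) (56, 36)).1, toF ((g - 4) % 3 + 1)),
    ((pairRoots.getD ((g - 4) / 3) (56, 36)).2, toF ((g - 4) % 3 + 1) * toF ((g - 4) % 3 + 1))]

/-- a word in root elements -/
noncomputable def wordEl (w : List (ℕ × F4)) : GLV := (w.map fun p => ChevGrp.xGL chevE6 F4 p.1 p.2).prod

/-- a word in root elements on patterns of 156 bits -/
def word4 (w : List (ℕ × F4)) (v : ℕ) : ℕ := w.foldr (fun p o => x4 p.1 p.2 o) v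

theorem mv_word4 : ∀ {w : List (ℕ × F4)}, (∀ p ∈ w, p.1 < 72) → ∀ v,
    mv (wordEl w) (d4 v) = d4 (word4 w v)
  | [], _, v => mv_one _
  | p :: w, h, v => by
    simp only [List.forall_mem_cons] at h
    rw [wordEl, List.map_cons, List.prod_cons, mv_mul, ← wordEl, mv_word4 h.2, mv, ChevGrp.val_xGL rules,
      ← x4_spec h.1]
    rfl

/-- a letter -/
noncomputable def letter (g : ℕ) : GLV := wordEl (lw g)

theorem letter_small : ∀ g : Fin 16, ∀ p ∈ lw g.val, p.1 < 72 := by decide +kernel

theorem col_table : ∀ g : Fin 16, (colTab.getD g.val []).length = 78 ∧ ∀ b : Fin 78,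
    Nat.beq (word4 (lw g.val) (bvTab.getD b.val 0)) (conv ((colTab.getD g.val []).getD b.val 0)) = true := by
  decide +kernel

theorem rep_letter {g : ℕ} (hg : g < 16) : Rep (letter g) (colTab.getD g []) :=
  rep_of_bits (col_table ⟨g, hg⟩).1 fun b hb => by
    rw [bv, letter, mv_word4 (letter_small ⟨g, hg⟩), Nat.eq_of_beq_eq_true ((col_table ⟨g, hg⟩).2 ⟨b, hb⟩)]
    rfl

end Cfsg.Agent.TwE6Fi22
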