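import Cfsg.Agent.TwE6Fi22.Hom

/-!
The centraliser of the orthogonal subgroup consists of scalars.
-/

set_option autoImplicit false
set_option Elab.async false

open Cfsg Cfsg.Lie Matrix

namespace Cfsg.Agent.TwE6Fi22

open Cfsg.Agent.GFour25

theorem coef_small : ∀ i : chevE6.Idx, ∀ q ∈ coefTab.getD (pos i) [], q.1 < 78 := by decide +kernel

theorem span_bv : ⊤ ≤ Submodule.span F4 (Set.range fun b : Fin 78 => bv b.val) := by
  rw [← (Pi.basisFun F4 chevE6.Idx).span_eq, Submodule.span_le]
  rintro _ ⟨i, rfl⟩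
  rw [Pi.basisFun_apply, single_eq]
  refine list_sum_mem fun x hx => ?_
  obtain ⟨q, hq, rfl⟩ := List.mem_map.1 hx
  exact Submodule.smul_mem _ _ (Submodule.subset_span ⟨⟨q.1, coef_small i q hq⟩, rfl⟩)

/-- the fixed vectors form a basis -/
noncomputable def bvBasis : Module.Basis (Fin 78) F4 Vec :=
  basisOfTopLeSpanOfCardEqFinrank (fun b : Fin 78 => bv b.val) span_bv (by
    rw [Module.finrank_pi]; rfl)

theorem bvBasis_apply (b : Fin 78) : bvBasis b = bv b.val := by simp [bvBasis]

theorem dec_eq_fin (v : ℕ) :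
    dec v = ∑ b : Fin 78, (if v.testBit b.val then (1 : F4) else 0) • bv b.val := by
  rw [dec_eq_sum, show ((List.range 78).map fun b => if v.testBit b then bv b else 0).sum =
    ∑ b ∈ Finset.range 78, if v.testBit b then bv b else 0 from rfl, Finset.sum_range]
  exact Finset.sum_congr rfl fun b _ => by split_ifs <;> simp

theorem repr_dec (v : ℕ) (b : Fin 78) : bvBasis.repr (dec v) b = if v.testBit b.val then 1 else 0 := by
  rw [dec_eq_fin]
  simp_rw [← bvBasis_apply]
  rw [bvBasis.repr_sum_self]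

/-- the value of a condition on coordinates -/
def evMask (c : Fin 78 → F4) (m : ℕ) : F4 := ∑ b : Fin 78, if m.testBit b.val then c b else 0

theorem evMask_zero (c : Fin 78 → F4) : evMask c 0 = 0 := by simp [evMask]

theorem evMask_xor (c : Fin 78 → F4) (m n : ℕ) : evMask c (m ^^^ n) = evMask c m + evMask c n := by
  rw [evMask, evMask, evMask, ← Finset.sum_add_distrib]
  refine Finset.sum_congr rfl fun b _ => ?_
  rw [Nat.testBit_xor]
  cases m.testBit b.val <;> cases n.testBit b.val <;> simp [GFour25.add_self]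

theorem evMask_two_pow (c : Fin 78 → F4) (b : Fin 78) : evMask c (2 ^ b.val) = c b := by
  rw [evMask, Finset.sum_eq_single b]
  · simp
  · intro a _ ha
    simp [Nat.testBit_two_pow, Fin.val_ne_of_ne (Ne.symm ha)]
  · simp

/-- the condition given by a row and a bit -/
def maskOf (R : List ℕ) (b : ℕ) : ℕ :=
  (List.range 78).foldr (fun c o => (if (R.getD c 0 ^^^ 2 ^ c).testBit b then 2 ^ c else 0) ^^^ o) 0

theorem evMask_fixed {g : GLV} {R : List ℕ} (hR : Rep g R) {x : Vec} (hx : mv g x = x) (b : Fin 78) :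
    evMask (fun a => bvBasis.repr x a) (maskOf R b.val) = 0 := by
  have e : ∀ (f : ℕ → ℕ) (l : List ℕ) (c : Fin 78 → F4),
      evMask c (l.foldr (fun a o => f a ^^^ o) 0) = (l.map fun a => evMask c (f a)).sum := by
    intro f l c
    induction l with
    | nil => exact evMask_zero c
    | cons a l ih => rw [List.foldr_cons, evMask_xor, ih, List.map_cons, List.sum_cons]
  set c : Fin 78 → F4 := fun a => bvBasis.repr x a with hc
  rw [maskOf, e, show ∀ f : ℕ → F4, ((List.range 78).map f).sum = ∑ a ∈ Finset.range 78, f a from fun _ => rfl,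
    Finset.sum_range]
  have hgx : mv g x = ∑ a : Fin 78, c a • dec (R.getD a.val 0) := by
    conv_lhs => rw [← bvBasis.sum_repr x, mv, ← Matrix.mulVecLin_apply, map_sum]
    refine Finset.sum_congr rfl fun a _ => ?_
    rw [map_smul, bvBasis_apply, Matrix.mulVecLin_apply]
    exact congrArg _ (hR.apply a.val)
  have h1 : bvBasis.repr (mv g x) b = ∑ a : Fin 78, c a * if (R.getD a.val 0).testBit b.val then 1 else 0 := by
    rw [hgx, map_sum, Finsupp.finsetSum_apply]
    simp only [map_smul, Finsupp.smul_apply, repr_dec, smul_eq_mul]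
  rw [hx] at h1
  have h2 : ∀ a : Fin 78, evMask c (if (R.getD a.val 0 ^^^ 2 ^ a.val).testBit b.val then 2 ^ a.val else 0) =
      c a * (if (R.getD a.val 0).testBit b.val then 1 else 0) + (if a = b then c a else 0) := by
    intro a
    rw [Nat.testBit_xor, Nat.testBit_two_pow]
    by_cases hab : a = b
    · subst hab
      cases (R.getD a.val 0).testBit a.val <;> simp [evMask_two_pow, evMask_zero, GFour25.add_self]
    · cases (R.getD a.val 0).testBit b.val <;>
        simp [hab, Fin.val_ne_of_ne hab, evMask_two_pow, evMask_zero]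
  simp only [h2, Finset.sum_add_distrib, Finset.sum_ite_eq', Finset.mem_univ, if_true, ← h1]
  exact GFour25.add_self _

theorem s_data : ∀ i : Fin 7, (∀ k ∈ sWord.getD i.val [], k ∈ [1, 2, 3, 4, 5, 6, 7, 8]) ∧
    rowOK zRow 9 (sWord.getD i.val []) (sRow.getD i.val []) = true ∧
    Nat.beq ((sRow.getD i.val []).getD uBit 0) (2 ^ uBit) = true ∧
    ∀ b : Fin 78, Nat.beq (maskOf (sRow.getD i.val []) b.val) (sMask.getD (78 * i.val + b.val) 0) = true := by
  decide +kernel

theorem fix_cert : ∀ b : Fin 78, b.val ≠ uBit → (∀ k ∈ fixCert.getD b.val [], k < 546) ∧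
    Nat.beq ((fixCert.getD b.val []).foldr (fun k o => sMask.getD k 0 ^^^ o) 0) (2 ^ b.val) = true := by
  decide +kernel

theorem span_data : ∀ i : Fin 78, (∀ k ∈ spanWord.getD i.val [], k ∈ [1, 2, 3, 4, 5, 6, 7, 8]) ∧
    Nat.beq (actW zRow (spanWord.getD i.val []) (2 ^ uBit)) (spanVec.getD i.val 0) = true := by
  decide +kernel

theorem span_cert : ∀ b : Fin 78, (∀ k ∈ spanCert.getD b.val [], k < 78) ∧
    Nat.beq ((spanCert.getD b.val []).foldr (fun k o => spanVec.getD k 0 ^^^ o) 0) (2 ^ b.val) = true := by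
  decide +kernel

/-- An element commuting with the eight generators of the orthogonal subgroup is a scalar. -/
theorem scalar_of_commute {n : GLV} (hn : ∀ k ∈ [1, 2, 3, 4, 5, 6, 7, 8], Commute n (zEl k)) :
    ∃ a : F4, ∀ b, mv n (bv b) = a • bv b := by
  have hlt : ∀ {k : ℕ}, k ∈ [1, 2, 3, 4, 5, 6, 7, 8] → k < 9 := fun hk => by
    simp only [List.mem_cons, List.not_mem_nil, or_false] at hk; omega
  have hw : ∀ {w : List ℕ}, (∀ k ∈ w, k ∈ [1, 2, 3, 4, 5, 6, 7, 8]) → Commute n (w.map zEl).prod := fun h =>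
    Commute.list_prod_right _ _ fun x hx => by
      obtain ⟨k, hk, rfl⟩ := List.mem_map.1 hx
      exact hn k (h k hk)
  set x : Vec := mv n (dec (2 ^ uBit)) with hx
  set c : Fin 78 → F4 := fun a => bvBasis.repr x a with hc
  have hu : uBit < 78 := by decide
  have hfix : ∀ (i : Fin 7) (b : Fin 78), evMask c (sMask.getD (78 * i.val + b.val) 0) = 0 := by
    intro i b
    obtain ⟨hk, hr, hf, hm⟩ := s_data i
    have hR := rep_of_rowOK (fun _ hg => rep_z hg) hr
    rw [← Nat.eq_of_beq_eq_true (hm b)]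
    refine evMask_fixed hR ?_ b
    rw [hx, ← mv_mul, ← (hw hk).eq, mv_mul, hR, appRow_two_pow, Nat.eq_of_beq_eq_true hf]
  have hzero : ∀ b : Fin 78, b.val ≠ uBit → c b = 0 := by
    intro b hb
    obtain ⟨hk, he⟩ := fix_cert b hb
    rw [← evMask_two_pow c b, ← Nat.eq_of_beq_eq_true he]
    clear he
    generalize fixCert.getD b.val [] = l at hk ⊢
    induction l with
    | nil => exact evMask_zero c
    | cons k l ih =>
      have hk' := hk k List.mem_cons_self
      rw [List.foldr_cons, evMask_xor, ih fun q hq => hk q (List.mem_cons_of_mem _ hq), add_zero]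
      have hk1 := hfix ⟨k / 78, by omega⟩ ⟨k % 78, Nat.mod_lt _ (by norm_num)⟩
      rwa [show 78 * (k / 78) + k % 78 = k by omega] at hk1
  refine ⟨c ⟨uBit, hu⟩, fun b => ?_⟩
  set a : F4 := c ⟨uBit, hu⟩
  have hxu : x = a • dec (2 ^ uBit) := by
    conv_lhs => rw [← bvBasis.sum_repr x]
    rw [Finset.sum_eq_single (⟨uBit, hu⟩ : Fin 78), bvBasis_apply, dec_two_pow]
    · intro b _ hb
      rw [show bvBasis.repr x b = 0 from hzero b (fun h => hb (Fin.ext h)), zero_smul]
    · simp
  have hspan : ∀ i : Fin 78, mv n (dec (spanVec.getD i.val 0)) = a • dec (spanVec.getD i.val 0) := by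
    intro i
    obtain ⟨hk, he⟩ := span_data i
    rw [← Nat.eq_of_beq_eq_true he, ← mv_actW (fun _ hg => rep_z hg) (fun k h => hlt (hk k h)), ← mv_mul,
      (hw hk).eq, mv_mul, ← hx, hxu, mv, Matrix.mulVec_smul]
    rfl
  by_cases hb : b < 78
  · obtain ⟨hk, he⟩ := span_cert ⟨b, hb⟩
    rw [← dec_two_pow, ← Nat.eq_of_beq_eq_true he]
    clear he
    simp only at hk ⊢
    generalize spanCert.getD b [] = l at hk ⊢
    induction l with
    | nil => simp [dec_zero, mv]
    | cons k l ih =>
      have hk1 := hk k List.mem_cons_self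
      have hk2 := fun q hq => hk q (List.mem_cons_of_mem _ hq)
      rw [List.foldr_cons, dec_xor, mv, Matrix.mulVec_add, smul_add]
      exact congrArg₂ (· + ·) (hspan ⟨k, hk1⟩) (ih hk2)
  · have : bv b = 0 := by
      rw [bv, List.getD_eq_default _ _ (by rw [bv_length]; omega), d4_zero]
    simp [this, mv]

/-- preservation of the fixed vectors -/
def Pres (g : GLV) : Prop := ∀ v, ∃ v', mv g (dec v) = dec v'

theorem Pres.one : Pres 1 := fun v => ⟨v, mv_one _⟩

theorem Pres.mul {g h : GLV} (hg : Pres g) (hh : Pres h) : Pres (g * h) := fun v => by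
  obtain ⟨v1, e1⟩ := hh v
  obtain ⟨v2, e2⟩ := hg v1
  exact ⟨v2, by rw [mv_mul, e1, e2]⟩

theorem Rep.pres {g : GLV} {R : List ℕ} (h : Rep g R) : Pres g := fun v => ⟨_, h v⟩

theorem letters_cover : ∀ t : F4, t ≠ 0 → ∀ k : Fin 4, ∃ g : Fin 16,
    lw g.val = [((pairRoots.getD k.val (56, 36)).1, t), ((pairRoots.getD k.val (56, 36)).2, t * t)] := by
  decide +kernel

theorem letters_cover_one : ∀ r ∈ [e6p2, e6m2, e6p4, e6m4], ∃ g : Fin 16, lw g.val = [(r, 1)] := by
  decide +kernel

theorem pres_word {w : List (ℕ × F4)} (hw : w ∈ e6Words F4 2) : Pres (wordEl w) := by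
  have hz : ∀ r, r < 72 → ChevGrp.xGL chevE6 F4 r 0 = 1 := fun r hr => (ChevGrp.glSys rules).x_zero hr
  rcases hw with ⟨t, ht, r, hr, rfl⟩ | ⟨t, rs, hrs, rfl⟩
  · have h01 : t = 0 ∨ t = 1 := by
      have : ∀ t : F4, t * t = t → t = 0 ∨ t = 1 := by decide
      exact this t (by rw [← pow_two, ht])
    rcases h01 with rfl | rfl
    · have : wordEl [(r, (0 : F4))] = 1 := by
        rw [wordEl, List.map_singleton, List.prod_singleton,
          hz r (e6_small (Or.inl ⟨0, ht, r, hr, rfl⟩) (r, 0) List.mem_cons_self)]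
      rw [this]
      exact Pres.one
    · obtain ⟨g, hg⟩ := letters_cover_one r hr
      rw [← hg]
      exact (rep_letter g.2).pres
  · rcases eq_or_ne t 0 with rfl | ht
    · have hs := e6_small (Or.inr ⟨(0 : F4), rs, hrs, rfl⟩)
      simp only [List.forall_mem_cons] at hs
      have : wordEl [(rs.1, (0 : F4)), (rs.2, (0 : F4) ^ 2)] = 1 := by
        rw [zero_pow two_ne_zero, wordEl, List.map_cons, List.map_singleton, List.prod_cons, List.prod_singleton,
          hz _ hs.1, hz _ hs.2.1, one_mul]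
      rw [this]
      exact Pres.one
    · have hmem : ∀ rs ∈ [(e6p1, e6p6), (e6m1, e6m6), (e6p3, e6p5), (e6m3, e6m5)],
          ∃ k : Fin 4, pairRoots.getD k.val (56, 36) = rs := by decide
      obtain ⟨k, hk⟩ := hmem rs hrs
      obtain ⟨g, hg⟩ := letters_cover t ht k
      rw [hk, ← pow_two] at hg
      rw [← hg]
      exact (rep_letter g.2).pres

theorem pres_of_mem {g : GLV} (hg : g ∈ Tw) : Pres g := by
  change g ∈ (Subgroup.closure {g : GLV | ∃ w ∈ e6Words F4 2,
    (g : Matrix chevE6.Idx chevE6.Idx F4) = chevE6.wordMat F4 w}).toSubmonoid at hg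
  rw [Subgroup.closure_toSubmonoid_of_finite] at hg
  induction hg using Submonoid.closure_induction with
  | one => exact Pres.one
  | mul a b _ _ ha hb => exact ha.mul hb
  | mem x hx =>
    obtain ⟨w, hw, hx⟩ := hx
    rw [ChevTw.eq_word_of_mat rules hx]
    exact pres_word hw

theorem pres_dEl_pow : ∀ k : ℕ, Pres (dEl ^ k)
  | 0 => by rw [pow_zero]; exact Pres.one
  | k + 1 => by rw [pow_succ]; exact (pres_dEl_pow k).mul rep_dEl.pres

/-- An element preserving the fixed vectors and commuting with the orthogonal subgroup is trivial. -/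
theorem eq_one_of_commute {n : GLV} (hp : Pres n) (hn : ∀ k ∈ [1, 2, 3, 4, 5, 6, 7, 8], Commute n (zEl k)) :
    n = 1 := by
  obtain ⟨a, ha⟩ := scalar_of_commute hn
  have hu : uBit < 78 := by decide
  obtain ⟨v', hv⟩ := hp (2 ^ uBit)
  rw [dec_two_pow, ha] at hv
  have h1 : a = if v'.testBit uBit then 1 else 0 := by
    have := congrArg (fun y => bvBasis.repr y ⟨uBit, hu⟩) hv
    simp only [map_smul, Finsupp.smul_apply, repr_dec, ← bvBasis_apply ⟨uBit, hu⟩, bvBasis.repr_self,
      Finsupp.single_eq_same, smul_eq_mul, mul_one] at this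
    exact this
  refine ext_bv fun b => ?_
  rw [ha, mv_one]
  by_cases h : v'.testBit uBit
  · rw [h1, if_pos h, one_smul]
  · exfalso
    rw [if_neg h] at h1
    have h0 : mv n (bv uBit) = 0 := by rw [ha, h1, zero_smul]
    have h2 : bv uBit = 0 := by
      have := congrArg (mv n⁻¹) h0
      rw [← mv_mul, inv_mul_cancel, mv_one] at this
      simpa [mv] using this
    exact bvBasis.ne_zero ⟨uBit, hu⟩ ((bvBasis_apply _).trans h2)

end Cfsg.Agent.TwE6Fi22
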