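import Cfsg.Agent.TwE6Fi22.Bits
import Cfsg.Agent.ChevTw.TwE6Diag
import Cfsg.Agent.ChevGrp.Parabolic

/-!
The diagonal automorphism of order three of the twisted group of type E6 over four elements is not inner.
-/

set_option autoImplicit false

open Cfsg Cfsg.Lie Matrix

namespace Cfsg.Agent.TwE6Fi22

open Cfsg.Agent.GFour25

/-- the twisted group -/
abbrev Tw : Subgroup GLV := twistedE6 F4 2

/-- a primitive cube root of unity -/
def om : F4 := ⟨false, true⟩

theorem om_pow_three : om ^ 3 = 1 := by decide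

/-- the exponent of a coordinate -/
def wt (i : chevE6.Idx) : ℕ := wtTab.getD (pos i) 0

/-- the diagonal automorphism -/
def dEl : GLV where
  val := Matrix.diagonal fun i => om ^ wt i
  inv := Matrix.diagonal fun i => om ^ (2 * wt i)
  val_inv := by
    rw [Matrix.diagonal_mul_diagonal, ← Matrix.diagonal_one]
    congr 1
    funext i
    rw [← pow_add, show wt i + 2 * wt i = 3 * wt i by omega, pow_mul, om_pow_three, one_pow]
  inv_val := by
    rw [Matrix.diagonal_mul_diagonal, ← Matrix.diagonal_one]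
    congr 1
    funext i
    rw [← pow_add, show 2 * wt i + wt i = 3 * wt i by omega, pow_mul, om_pow_three, one_pow]

theorem dEl_pow_three : dEl ^ 3 = 1 := by
  refine Units.ext ?_
  rw [Units.val_pow_eq_pow_val, Units.val_one, ← Matrix.diagonal_one]
  show Matrix.diagonal _ ^ 3 = _
  rw [Matrix.diagonal_pow]
  congr 1
  funext i
  rw [Pi.pow_apply, ← pow_mul, mul_comm, pow_mul, om_pow_three, one_pow]

theorem om_pow_mod (n : ℕ) : om ^ n = om ^ (n % 3) := by
  conv_lhs => rw [← Nat.mod_add_div n 3, pow_add, pow_mul, om_pow_three, one_pow, mul_one]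

theorem weights_ok : ∀ r : Fin 72, (ChevTw.xTerms chevE6 r.val).all (fun x =>
    Nat.beq (wtTab.getD x.1 0 % 3) ((wtTab.getD x.2.1 0 + x.2.2.1 * wtTab.getD (6 + r.val) 0) % 3)) = true := by
  decide +kernel

theorem dEl_xGL {r : ℕ} (hr : r < 72) (t : F4) :
    dEl * ChevGrp.xGL chevE6 F4 r t =
      ChevGrp.xGL chevE6 F4 r (om ^ wtTab.getD (6 + r) 0 * t) * dEl := by
  refine Units.ext ?_
  rw [Units.val_mul, Units.val_mul, ChevGrp.val_xGL rules, ChevGrp.val_xGL rules]
  ext i j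
  rw [show (dEl : Matrix chevE6.Idx chevE6.Idx F4) = Matrix.diagonal (fun i => om ^ wt i) from rfl,
    Matrix.diagonal_mul, Matrix.mul_diagonal]
  have e : ∀ u, chevE6.x F4 r u i j =
      ((ChevTw.xTerms chevE6 r).map fun x => ChevTw.termMat (chevE6.rank + chevE6.nroots) u x
        (ChevTw.idxEquiv chevE6 i) (ChevTw.idxEquiv chevE6 j)).sum := by
    intro u
    rw [← ChevTw.evalT_apply, ChevTw.evalT_xTerms chevE6 r hr (neg_ok ⟨r, hr⟩)]
    simp
  rw [e, e, ← List.sum_map_mul_left, ← List.sum_map_mul_right]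
  refine congrArg List.sum (List.map_congr_left fun x hx => ?_)
  simp only [ChevTw.termMat, Matrix.of_apply]
  split_ifs with h
  · have hw := Nat.eq_of_beq_eq_true (List.all_eq_true.1 (weights_ok ⟨r, hr⟩) x hx)
    have hi : wt i = wtTab.getD x.1 0 := by rw [wt, pos, h.1]
    have hj : wt j = wtTab.getD x.2.1 0 := by rw [wt, pos, h.2]
    rw [hi, hj, mul_pow, ← pow_mul, mul_comm (wtTab.getD (6 + r) 0), om_pow_mod, hw, ← om_pow_mod, pow_add]
    ring
  · simp

/-- the conjugate of a word under the diagonal automorphism -/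
def dWord (w : List (ℕ × F4)) : List (ℕ × F4) := w.map fun p => (p.1, om ^ wtTab.getD (6 + p.1) 0 * p.2)

theorem dEl_word : ∀ {w : List (ℕ × F4)}, (∀ p ∈ w, p.1 < 72) →
    dEl * wordEl w = wordEl (dWord w) * dEl
  | [], _ => by simp [wordEl, dWord]
  | p :: w, h => by
    simp only [List.forall_mem_cons] at h
    have ih := dEl_word h.2
    simp only [wordEl, dWord, List.map_cons, List.prod_cons] at ih ⊢
    rw [← mul_assoc, dEl_xGL h.1, mul_assoc, ih, mul_assoc]

theorem e6_small {w : List (ℕ × F4)} (hw : w ∈ e6Words F4 2) : ∀ p ∈ w, p.1 < 72 := by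
  rcases hw with ⟨t, -, r, hr, rfl⟩ | ⟨t, rs, hrs, rfl⟩
  · simp only [List.mem_singleton, forall_eq]
    revert r; decide
  · simp only [List.mem_cons, List.not_mem_nil, or_false, forall_eq_or_imp, forall_eq]
    revert rs; decide

theorem dWord_mem {w : List (ℕ × F4)} (hw : w ∈ e6Words F4 2) : dWord w ∈ e6Words F4 2 := by
  rcases hw with ⟨t, ht, r, hr, rfl⟩ | ⟨t, rs, hrs, rfl⟩
  · refine Or.inl ⟨t, ht, r, hr, ?_⟩
    have h0 : ∀ r ∈ [e6p2, e6m2, e6p4, e6m4], wtTab.getD (6 + r) 0 = 0 := by decide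
    simp only [dWord, List.map_cons, List.map_nil]
    rw [h0 r hr, pow_zero, one_mul]
  · have h2 : ∀ rs ∈ [(e6p1, e6p6), (e6m1, e6m6), (e6p3, e6p5), (e6m3, e6m5)],
        wtTab.getD (6 + rs.2) 0 % 3 = 2 * wtTab.getD (6 + rs.1) 0 % 3 := by decide
    refine Or.inr ⟨om ^ wtTab.getD (6 + rs.1) 0 * t, rs, hrs, ?_⟩
    simp only [dWord, List.map_cons, List.map_nil, mul_pow, ← pow_mul]
    rw [om_pow_mod (wtTab.getD (6 + rs.2) 0), h2 rs hrs, ← om_pow_mod, mul_comm 2]

theorem mem_Tw_of_word {w : List (ℕ × F4)} (hw : w ∈ e6Words F4 2) : wordEl w ∈ Tw :=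
  ChevTw.word_mem_genSubgroup rules hw

theorem dEl_conj {g : GLV} (hg : g ∈ Tw) : dEl * g * dEl⁻¹ ∈ Tw := by
  have : Tw ≤ Tw.comap (MulAut.conj dEl).toMonoidHom := by
    refine (Subgroup.closure_le _).2 ?_
    rintro g ⟨w, hw, hg⟩
    rw [ChevTw.eq_word_of_mat rules hg]
    show dEl * wordEl w * dEl⁻¹ ∈ Tw
    rw [dEl_word (e6_small hw), mul_inv_cancel_right]
    exact mem_Tw_of_word (dWord_mem hw)
  exact this hg

theorem Tw_le_Gbar : Tw ≤ (ChevGrp.glSys rules).Gbar := by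
  refine (Subgroup.closure_le _).2 ?_
  rintro g ⟨w, hw, hg⟩
  rw [ChevTw.eq_word_of_mat rules hg]
  refine Subgroup.list_prod_mem _ fun x hx => ?_
  obtain ⟨p, hp, rfl⟩ := List.mem_map.1 hx
  exact Subgroup.subset_closure ⟨p.1, e6_small hw p hp, p.2, rfl⟩

theorem invariant : ∀ c : Fin 6 → F4ˣ, ¬ ∀ k : Fin 6,
    ((∏ j : Fin 6, c j ^ ChevTw.cartE6 j k : F4ˣ) : F4) = om ^ wtTab.getD (6 + chevE6.simple k.val) 0 := by
  decide +kernel

/-- the diagonal automorphism is not inner -/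
theorem dEl_not_mem : dEl ∉ Tw := by
  intro hd
  obtain ⟨len, hR⟩ := rules.root
  set S := ChevGrp.glSys rules with hS
  have hn : dEl ∈ Subgroup.normalizer (S.UJ ∅ : Set GLV) := by
    have key : ∀ k : GLV, (k = dEl ∨ k = dEl⁻¹) → ∀ r ∈ {r | chevE6.IsPosRoot r ∧ ¬ chevE6.InRootSub ∅ r},
        ∀ t : F4, k * S.x r t * k⁻¹ ∈ S.UJ ∅ := by
      have h1 : ∀ r ∈ {r | chevE6.IsPosRoot r ∧ ¬ chevE6.InRootSub ∅ r}, ∀ t : F4,
          dEl * S.x r t * dEl⁻¹ ∈ S.UJ ∅ := fun r hr t => by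
        rw [show dEl * S.x r t = S.x r (om ^ wtTab.getD (6 + r) 0 * t) * dEl from dEl_xGL hr.1.1 t,
          mul_inv_cancel_right]
        exact S.x_mem_US hr _
      rintro k (rfl | rfl) r hr t
      · exact h1 r hr t
      · have e : dEl⁻¹ = dEl * dEl := inv_eq_of_mul_eq_one_right (by rw [← dEl_pow_three, pow_three])
        rw [e, show dEl * dEl * S.x r t * (dEl * dEl)⁻¹ = dEl * (dEl * S.x r t * dEl⁻¹) * dEl⁻¹ by group,
          show dEl * S.x r t = S.x r (om ^ wtTab.getD (6 + r) 0 * t) * dEl from dEl_xGL hr.1.1 t,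
          mul_inv_cancel_right]
        exact h1 r hr _
    exact S.mem_normalizer_US (key _ (Or.inl rfl)) (fun r hr t => by
      have h2 := key _ (Or.inr rfl) r hr t
      rw [inv_inv] at h2
      exact h2)
  have hB : dEl ∈ S.Bbar := by
    have h := Subgroup.mem_inf.2 ⟨hn, Tw_le_Gbar hd⟩
    rw [S.normalizer_inf_Gbar rules hR, ChevGrp.Sys.PJ] at h
    simpa using h
  obtain ⟨u, hu, h, hh, e⟩ := (S.mem_Bbar rules hR).1 hB
  obtain ⟨a, -, ea⟩ := S.mat_Hbar rules hR (inv_mem hh)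
  have hu1 : u = 1 := by
    have em : S.mat u = Matrix.diagonal (fun i => om ^ wt i) * S.mat h⁻¹ := by
      rw [show u = dEl * h⁻¹ by rw [e, mul_inv_cancel_right], ChevGrp.Sys.mat_mul]
      rfl
    refine Units.ext ?_
    show S.mat u = _
    ext x y
    by_contra hne
    have h2 := S.raise_Ubar hR hu x y hne
    have hxy : x ≠ y := fun e => by subst e; omega
    rw [em, ea, Matrix.diagonal_mul_diagonal, Matrix.diagonal_apply_ne _ hxy, Units.val_one,
      Matrix.one_apply_ne hxy] at hne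
    exact hne rfl
  rw [hu1, one_mul] at e
  rw [← e, ← S.tau_range rules hR (ChevGrp.glSys_HMul rules hR)] at hh
  obtain ⟨c, hc⟩ := hh
  refine invariant c fun k => ?_
  have hm := S.mat_tau rules hR (ChevGrp.glSys_HMul rules hR) c
  rw [hc] at hm
  have := congrFun (congrFun hm (Sum.inr ⟨chevE6.simple k.val, hR.simple_lt k k.2⟩))
    (Sum.inr ⟨chevE6.simple k.val, hR.simple_lt k k.2⟩)
  rw [Matrix.diagonal_apply_eq, Sum.elim_inr] at this
  refine Eq.trans ?_ (this.symm.trans ?_)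
  · refine congrArg Units.val (Finset.prod_congr rfl fun j _ => ?_)
    exact congrArg (c j ^ ·) (ChevTw.cartE6_eq j k).symm
  · show Matrix.diagonal (fun i => om ^ wt i) _ _ = _
    rw [Matrix.diagonal_apply_eq]
    rfl

theorem dCol_ok : dCol.length = 78 ∧ ∀ b : Fin 78, ∀ i : chevE6.Idx,
    om ^ wt i * get4 (bvTab.getD b.val 0) (pos i) = get4 (conv (dCol.getD b.val 0)) (pos i) := by
  decide +kernel

theorem rep_dEl : Rep dEl dCol := rep_of_bits dCol_ok.1 fun b hb => by
  funext i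
  show (Matrix.diagonal (fun i => om ^ wt i) *ᵥ bv b) i = _
  rw [Matrix.mulVec_diagonal]
  exact dCol_ok.2 ⟨b, hb⟩ i

end Cfsg.Agent.TwE6Fi22
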