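import Cfsg.Agent.TwE6Fi22.Diag
import Cfsg.Agent.CosetEnum.FiTwentyTwo.Main
import Cfsg.Agent.SporB.FiTwoTwoO.Iso

/-!
The Fischer group Fi22 inside the twisted group of type E6 over four elements.
-/

set_option autoImplicit false
set_option Elab.async false

open Cfsg Cfsg.Lie Matrix

namespace Cfsg.Agent.TwE6Fi22

open Cfsg.Agent.GFour25

theorem Rep.one_iff {g : GLV} {R : List ℕ} (h : Rep g R)
    (hR : (List.range 78).all (fun b => Nat.beq (R.getD b 0) (2 ^ b)) = true) : g = 1 := by
  refine ext_bv fun b => ?_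
  by_cases hb : b < 78
  · rw [h.apply, Nat.eq_of_beq_eq_true (List.all_eq_true.1 hR b (List.mem_range.2 hb)), mv_one, dec_two_pow]
  · have : bv b = 0 := by
      rw [bv, List.getD_eq_default _ _ (by rw [bv_length]; omega), d4_zero]
    simp [this, mv]

/-- the row of the identity -/
def idRow : List ℕ := (List.range 78).map fun b => 2 ^ b

theorem idRow_ok : (List.range 78).all (fun b => Nat.beq (idRow.getD b 0) (2 ^ b)) = true := by decide +kernel

theorem letter_mem {g : ℕ} (hg : g < 16) : letter g ∈ Tw := by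
  refine mem_Tw_of_word ?_
  have h : ∀ g : Fin 16, (g.val < 4 ∧ [46, 25, 39, 32].getD g.val 46 ∈ [e6p2, e6m2, e6p4, e6m4]) ∨
      (¬ g.val < 4 ∧ pairRoots.getD ((g.val - 4) / 3) (56, 36) ∈
        [(e6p1, e6p6), (e6m1, e6m6), (e6p3, e6p5), (e6m3, e6m5)]) := by decide +kernel
  rcases h ⟨g, hg⟩ with ⟨h1, h2⟩ | ⟨h1, h2⟩
  · rw [lw, if_pos h1]
    exact Or.inl ⟨1, one_pow 2, _, h2, rfl⟩
  · rw [lw, if_neg h1]
    exact Or.inr ⟨_, _, h2, by rw [pow_two]⟩

/-- the nine transpositions -/
noncomputable def zEl (k : ℕ) : GLV := ((zWord.getD k []).map letter).prod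

theorem z_row0 : rowOK colTab 16 (zWord.getD 0 []) (zRow.getD 0 []) = true := by decide +kernel

theorem z_row1 : rowOK colTab 16 (zWord.getD 1 []) (zRow.getD 1 []) = true := by decide +kernel

theorem z_row2 : rowOK colTab 16 (zWord.getD 2 []) (zRow.getD 2 []) = true := by decide +kernel

theorem z_row3 : rowOK colTab 16 (zWord.getD 3 []) (zRow.getD 3 []) = true := by decide +kernel

theorem z_row4 : rowOK colTab 16 (zWord.getD 4 []) (zRow.getD 4 []) = true := by decide +kernel

theorem z_row5 : rowOK colTab 16 (zWord.getD 5 []) (zRow.getD 5 []) = true := by decide +kernel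

theorem z_row6 : rowOK colTab 16 (zWord.getD 6 []) (zRow.getD 6 []) = true := by decide +kernel

theorem z_row7 : rowOK colTab 16 (zWord.getD 7 []) (zRow.getD 7 []) = true := by decide +kernel

theorem z_row8 : rowOK colTab 16 (zWord.getD 8 []) (zRow.getD 8 []) = true := by decide +kernel

theorem z_rows : ∀ k : Fin 9, rowOK colTab 16 (zWord.getD k.val []) (zRow.getD k.val []) = true := by
  intro k
  fin_cases k
  exacts [z_row0, z_row1, z_row2, z_row3, z_row4, z_row5, z_row6, z_row7, z_row8]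

theorem z_small : ∀ k : Fin 9, ∀ g ∈ zWord.getD k.val [], g < 16 := by decide +kernel

theorem rep_z {k : ℕ} (hk : k < 9) : Rep (zEl k) (zRow.getD k []) :=
  rep_of_rowOK (fun _ hg => rep_letter hg) (z_rows ⟨k, hk⟩)

theorem zEl_mem {k : ℕ} (hk : k < 9) : zEl k ∈ Tw :=
  Subgroup.list_prod_mem _ fun x hx => by
    obtain ⟨g, hg, rfl⟩ := List.mem_map.1 hx
    exact letter_mem (z_small ⟨k, hk⟩ g hg)

/-- the number of a generator -/
def genIdx : Cfsg.Spor.Fi22.Gen → ℕ
  | .a => 0 | .b => 1 | .c => 2 | .d => 3 | .e => 4 | .f => 5 | .g => 6 | .h => 7 | .i => 8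

theorem genIdx_lt : ∀ x, genIdx x < 9 := fun x => by cases x <;> decide

/-- the joined pairs -/
def joined : List (ℕ × ℕ) := [(0, 1), (1, 2), (2, 3), (3, 4), (3, 7), (4, 5), (5, 6), (7, 8)]

/-- the exponent of a relator in the Coxeter part -/
def expo (k l : ℕ) : ℕ :=
  if k = l then 1 else if (k, l) ∈ joined ∨ (l, k) ∈ joined then 3 else 2

theorem expo_eq : ∀ x ∈ Cfsg.Spor.coxNodes Cfsg.Spor.Fi22.edges, ∀ y ∈ Cfsg.Spor.coxNodes Cfsg.Spor.Fi22.edges,
    Cfsg.Spor.coxLabel Cfsg.Spor.Fi22.edges x y = expo (genIdx x) (genIdx y) := by decide +kernel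

theorem cox_row0 : ∀ l : Fin 9, 0 ≤ l.val →
    rowOK zRow 9 (List.replicate (expo 0 l.val) [0, l.val]).flatten idRow = true := by
  decide +kernel

theorem cox_row1 : ∀ l : Fin 9, 1 ≤ l.val →
    rowOK zRow 9 (List.replicate (expo 1 l.val) [1, l.val]).flatten idRow = true := by
  decide +kernel

theorem cox_row2 : ∀ l : Fin 9, 2 ≤ l.val →
    rowOK zRow 9 (List.replicate (expo 2 l.val) [2, l.val]).flatten idRow = true := by
  decide +kernel

theorem cox_row3 : ∀ l : Fin 9, 3 ≤ l.val →
    rowOK zRow 9 (List.replicate (expo 3 l.val) [3, l.val]).flatten idRow = true := by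
  decide +kernel

theorem cox_row4 : ∀ l : Fin 9, 4 ≤ l.val →
    rowOK zRow 9 (List.replicate (expo 4 l.val) [4, l.val]).flatten idRow = true := by
  decide +kernel

theorem cox_row5 : ∀ l : Fin 9, 5 ≤ l.val →
    rowOK zRow 9 (List.replicate (expo 5 l.val) [5, l.val]).flatten idRow = true := by
  decide +kernel

theorem cox_row6 : ∀ l : Fin 9, 6 ≤ l.val →
    rowOK zRow 9 (List.replicate (expo 6 l.val) [6, l.val]).flatten idRow = true := by
  decide +kernel

theorem cox_row7 : ∀ l : Fin 9, 7 ≤ l.val →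
    rowOK zRow 9 (List.replicate (expo 7 l.val) [7, l.val]).flatten idRow = true := by
  decide +kernel

theorem cox_row8 : ∀ l : Fin 9, 8 ≤ l.val →
    rowOK zRow 9 (List.replicate (expo 8 l.val) [8, l.val]).flatten idRow = true := by
  decide +kernel

theorem cox_rows : ∀ k l : Fin 9, k.val ≤ l.val →
    rowOK zRow 9 (List.replicate (expo k.val l.val) [k.val, l.val]).flatten idRow = true := by
  intro k
  fin_cases k
  exacts [cox_row0, cox_row1, cox_row2, cox_row3, cox_row4, cox_row5, cox_row6, cox_row7, cox_row8]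

theorem prod_replicate_flatten (f : ℕ → GLV) (w : List ℕ) : ∀ m : ℕ,
    ((List.replicate m w).flatten.map f).prod = (w.map f).prod ^ m
  | 0 => rfl
  | m + 1 => by
    rw [List.replicate_succ, List.flatten_cons, List.map_append, List.prod_append, prod_replicate_flatten f w m,
      pow_succ']

theorem cox_le {k l : ℕ} (hk : k < 9) (hl : l < 9) (h : k ≤ l) : (zEl k * zEl l) ^ expo k l = 1 := by
  have := (rep_of_rowOK (fun _ hg => rep_z hg) (cox_rows ⟨k, hk⟩ ⟨l, hl⟩ h)).one_iff idRow_ok
  rw [prod_replicate_flatten] at this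
  simpa using this

theorem cox_all {k l : ℕ} (hk : k < 9) (hl : l < 9) : (zEl k * zEl l) ^ expo k l = 1 := by
  rcases le_total k l with h | h
  · exact cox_le hk hl h
  · have he : expo k l = expo l k := by
      have : ∀ k l : Fin 9, expo k.val l.val = expo l.val k.val := by decide +kernel
      exact this ⟨k, hk⟩ ⟨l, hl⟩
    rw [he]
    have e : zEl k * zEl l = MulAut.conj (zEl l)⁻¹ (zEl l * zEl k) := by simp
    rw [e, ← map_pow, cox_le hl hk h, map_one]

theorem Rep.pow {g : GLV} {R R' : List ℕ} (h : Rep g R) (m : ℕ)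
    (hR : rowOK [R] 1 (List.replicate m 0) R' = true) : Rep (g ^ m) R' := by
  have := rep_of_rowOK (f := fun _ => g) (T := [R]) (n := 1)
    (fun k hk => by obtain rfl : k = 0 := by omega
                    exact h) hR
  simpa using this

theorem rel_row00 : rowOK zRow 9 relWord0 (relPow0.getD 0 []) = true := by decide +kernel

theorem rel_row01 : rowOK [relPow0.getD 0 []] 1 [0, 0, 0] (relPow0.getD 1 []) = true := by decide +kernel

theorem rel_row02 : rowOK [relPow0.getD 1 []] 1 [0, 0, 0] (relPow0.getD 2 []) = true := by decide +kernel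

theorem rel_row03 : rowOK [relPow0.getD 0 [], relPow0.getD 2 []] 2 [1, 0] idRow = true := by decide +kernel

theorem rel_row10 : rowOK zRow 9 relWord1 (relPow1.getD 0 []) = true := by decide +kernel

theorem rel_row11 : rowOK [relPow1.getD 0 []] 1 [0, 0, 0] (relPow1.getD 1 []) = true := by decide +kernel

theorem rel_row12 : rowOK [relPow1.getD 1 []] 1 [0, 0, 0] idRow = true := by decide +kernel

theorem rel_row20 : rowOK zRow 9 relWord2 (relPow2.getD 0 []) = true := by decide +kernel

theorem rel_row21 : rowOK [relPow2.getD 0 []] 1 [0, 0, 0] (relPow2.getD 1 []) = true := by decide +kernel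

theorem rel_row22 : rowOK [relPow2.getD 1 []] 1 [0, 0, 0] idRow = true := by decide +kernel

theorem rel_rows :
    (rowOK zRow 9 relWord0 (relPow0.getD 0 []) && rowOK [relPow0.getD 0 []] 1 [0, 0, 0] (relPow0.getD 1 []) &&
      rowOK [relPow0.getD 1 []] 1 [0, 0, 0] (relPow0.getD 2 []) &&
      rowOK [relPow0.getD 0 [], relPow0.getD 2 []] 2 [1, 0] idRow) = true ∧
    (rowOK zRow 9 relWord1 (relPow1.getD 0 []) && rowOK [relPow1.getD 0 []] 1 [0, 0, 0] (relPow1.getD 1 []) &&
      rowOK [relPow1.getD 1 []] 1 [0, 0, 0] idRow) = true ∧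
    (rowOK zRow 9 relWord2 (relPow2.getD 0 []) && rowOK [relPow2.getD 0 []] 1 [0, 0, 0] (relPow2.getD 1 []) &&
      rowOK [relPow2.getD 1 []] 1 [0, 0, 0] idRow) = true := by
  refine ⟨?_, ?_, ?_⟩ <;> simp only [rel_row00, rel_row01, rel_row02, rel_row03, rel_row10, rel_row11, rel_row12, rel_row20, rel_row21, rel_row22, Bool.and_self]

theorem pow_nine {w R1 R3 : List ℕ}
    (h : (rowOK zRow 9 w R1 && rowOK [R1] 1 [0, 0, 0] R3 && rowOK [R3] 1 [0, 0, 0] idRow) = true) :
    (w.map zEl).prod ^ 9 = 1 := by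
  simp only [Bool.and_eq_true] at h
  rw [show 9 = 3 * 3 from rfl, pow_mul]
  exact (((rep_of_rowOK (fun _ hg => rep_z hg) h.1.1).pow 3 h.1.2).pow 3 h.2).one_iff idRow_ok

theorem pow_ten : (relWord0.map zEl).prod ^ 10 = 1 := by
  obtain ⟨h, -, -⟩ := rel_rows
  simp only [Bool.and_eq_true] at h
  have h1 := rep_of_rowOK (fun _ hg => rep_z hg) h.1.1.1
  have h9 := (h1.pow 3 h.1.1.2).pow 3 h.1.2
  rw [← pow_mul, show 3 * 3 = 9 from rfl] at h9
  set g := (relWord0.map zEl).prod
  have h10 := rep_of_rowOK (f := fun k => if k = 0 then g else g ^ 9)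
    (T := [relPow0.getD 0 [], relPow0.getD 2 []]) (n := 2)
    (fun k hk => by
      rcases k with _ | _ | k
      · exact h1
      · exact h9
      · omega) h.2
  have := h10.one_iff idRow_ok
  simp only [List.map_cons, List.map_nil, List.prod_cons, List.prod_nil, if_true, one_ne_zero, if_false,
    mul_one] at this
  rw [pow_succ]
  exact this

/-- the images of the generators -/
noncomputable def genEl (x : Cfsg.Spor.Fi22.Gen) : GLV := zEl (genIdx x)

theorem rels_ok : ∀ r ∈ Cfsg.Spor.coxRelators Cfsg.Spor.Fi22.edges ∪ {r | r ∈ Cfsg.Spor.Fi22.extra},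
    FreeGroup.lift genEl r = 1 := by
  rintro r (⟨x, hx, y, hy, rfl⟩ | hr)
  · rw [map_pow, map_mul, FreeGroup.lift_apply_of, FreeGroup.lift_apply_of, expo_eq x hx y hy]
    exact cox_all (genIdx_lt x) (genIdx_lt y)
  · obtain ⟨-, h1, h2⟩ := rel_rows
    have e0 := pow_ten
    have e1 := pow_nine h1
    have e2 := pow_nine h2
    simp only [Set.mem_ofPred_eq, Cfsg.Spor.Fi22.extra, List.mem_cons, List.not_mem_nil, or_false] at hr
    rcases hr with rfl | rfl | rfl
    all_goals rw [map_pow]
    all_goals simp only [map_mul, FreeGroup.lift_apply_of, genEl, genIdx]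
    · simpa [relWord0, mul_assoc] using e0
    · simpa [relWord1, mul_assoc] using e1
    · simpa [relWord2, mul_assoc] using e2

/-- the map of the Fischer group into the matrix group -/
noncomputable def fiHom : Cfsg.Spor.Fi22 →* GLV := PresentedGroup.toGroup rels_ok

theorem fiHom_of (x : Cfsg.Spor.Fi22.Gen) : fiHom (PresentedGroup.of x) = zEl (genIdx x) :=
  PresentedGroup.toGroup.of rels_ok

theorem fiHom_range_le : fiHom.range ≤ Tw := by
  rw [MonoidHom.range_eq_map, ← PresentedGroup.closure_range_of, MonoidHom.map_closure, Subgroup.closure_le]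
  rintro _ ⟨_, ⟨x, rfl⟩, rfl⟩
  rw [fiHom_of]
  exact zEl_mem (genIdx_lt x)

theorem zEl_zero_ne : zEl 0 ≠ 1 := by
  intro h
  have hd : ∃ b : Fin 78, ∃ i : chevE6.Idx,
      get4 (conv ((zRow.getD 0 []).getD b.val 0)) (pos i) ≠ get4 (bvTab.getD b.val 0) (pos i) := by
    decide +kernel
  obtain ⟨b, i, hbi⟩ := hd
  have e := (rep_z (k := 0) (by norm_num)).apply b.val
  rw [h, mv_one] at e
  exact hbi (congrFun e.symm i)

theorem fiHom_injective : Function.Injective fiHom := by
  have := CosetEnum.FiTwentyTwo.main.1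
  rw [← MonoidHom.ker_eq_bot_iff]
  refine ((fiHom.normal_ker).eq_bot_or_eq_top).resolve_right fun h => zEl_zero_ne ?_
  have h1 : PresentedGroup.of Cfsg.Spor.Fi22.Gen.a ∈ fiHom.ker := h ▸ Subgroup.mem_top _
  rw [MonoidHom.mem_ker, fiHom_of] at h1
  exact h1

/-- the image of the Fischer group -/
noncomputable abbrev fiSub : Subgroup GLV := fiHom.range

/-- the image of the orthogonal subgroup -/
noncomputable abbrev oImg : Subgroup GLV := SporB.FischerO.oSub.map fiHom

theorem oImg_le : oImg ≤ fiSub := Subgroup.map_le_range _ _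

theorem zEl_mem_oImg {k : ℕ} (hk : k ∈ [1, 2, 3, 4, 5, 6, 7, 8]) : zEl k ∈ oImg := by
  have key : ∀ x : Cfsg.Spor.Fi22.Gen, x ≠ .a → zEl (genIdx x) ∈ oImg := by
    intro x hx
    rw [← fiHom_of]
    refine Subgroup.mem_map_of_mem _ (Subgroup.mem_map_of_mem _ (Subgroup.subset_closure ?_))
    cases x <;> first | exact absurd rfl hx | simp [Cfsg.Spor.Fi22.b, Cfsg.Spor.Fi22.c, Cfsg.Spor.Fi22.d,
      Cfsg.Spor.Fi22.e, Cfsg.Spor.Fi22.f, Cfsg.Spor.Fi22.g, Cfsg.Spor.Fi22.h, Cfsg.Spor.Fi22.i]
  simp only [List.mem_cons, List.not_mem_nil, or_false] at hk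
  rcases hk with rfl | rfl | rfl | rfl | rfl | rfl | rfl | rfl
  exacts [key .b (by decide), key .c (by decide), key .d (by decide), key .e (by decide), key .f (by decide),
    key .g (by decide), key .h (by decide), key .i (by decide)]

end Cfsg.Agent.TwE6Fi22
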